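import Groth.Agent.FanoCI.TwoQuad
import Groth.Agent.EulerChar.Cartier
import Groth.Agent.EulerChar.Push
import Groth.Agent.HilbLoc.Normal
import Groth.Agent.ProjTwist.Pn.Top
import Groth.Agent.ProjTwist.Zero
import Groth.Agent.ProjProper.Basic
import Groth.Agent.PlanePts.Forms

/-!
# Cohomology of a hypersurface in projective space
-/

set_option autoImplicit false
set_option linter.style.haveILetI false

universe u

open CategoryTheory CategoryTheory.Limits AlgebraicGeometry TopologicalSpace Opposite MvPolynomial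

noncomputable section

namespace Groth.Agent.HypCohLib

open Groth.Agent.Omega.Stalks Groth.Agent.PullStalk.Sky Groth.Agent.PullStalk.Exact
open Groth.Agent.SepTang48 (D)
open Groth.Agent.FanoCI

variable {k : Type u} [Field k] {n d : ℕ}

/-- `O(-d) ≅ I` for the hypersurface of a nonzero form of degree `d`. -/
theorem nonempty_idealIso (G : LefPen.Form n k d) (hG : G ≠ 0) :
    Nonempty (tw (n := n) (k := k) d ≅ ClSub.idealMod (LefPen.hypIdeal G)) := by
  let f : ∀ i : Fin 1, LefPen.Form n k ((fun _ : Fin 1 => d) i) := fun _ => G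
  have hI : Scheme.Hom.ker (LefPen.ciIdeal f).subschemeι = LefPen.hypIdeal G := by
    rw [Scheme.IdealSheafData.ker_subschemeι, LefPen.ciIdeal]
    exact le_antisymm (iSup_le fun _ => le_refl _) (le_iSup (fun j => LefPen.hypIdeal (f j)) 0)
  have hD : ∀ p : CohB1.ProjSpace n k, ∃ j, p ∈ D k n j := fun p =>
    Opens.mem_iSup.1 ((ProjTwist.iSup_stdOpen n k).ge (Opens.mem_top p))
  have hgen : ∀ (p : CohB1.ProjSpace n k) (j : Fin (n + 1)) (hp : p ∈ D k n j),
      idealStalk _ p (stalkLin (hom f 0) p (frame j p hp d)) = germF G j p hp := by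
    intro p j hp
    rw [frame, stalkLin_germ, hom_den, idealStalk_germ, idealSect_sig]
    rfl
  haveI : Mono (hom f 0) := mono_of_stalk fun p => by
    obtain ⟨j, hp⟩ := hD p
    haveI := isDomain_stalk (n := n) (k := k) p
    refine (injective_iff_map_eq_zero _).2 fun w hw => ?_
    obtain ⟨c, rfl⟩ := stalk_tw d j hp w
    have h := congrArg (idealStalk _ p) hw
    rw [map_zero] at h
    erw [map_smul, map_smul, hgen p j hp, smul_eq_mul] at h
    have hne : germF G j p hp ≠ 0 := germF_ne_zero j p hp G fun e => hG (Subtype.ext e)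
    rw [(mul_eq_zero.1 h).resolve_right hne, zero_smul]
  haveI : Epi (hom f 0) := epi_of_stalk fun p w => by
    obtain ⟨j, hp⟩ := hD p
    obtain ⟨c, hc⟩ := Ideal.mem_span_range_iff_exists_fun.1 (idealStalk_mem_span f j p hp w)
    refine ⟨c 0 • frame j p hp d, idealStalk_injective _ p ?_⟩
    rw [map_smul, map_smul, hgen p j hp, smul_eq_mul]
    rw [Fin.sum_univ_one] at hc
    exact hc
  haveI : IsIso (hom f 0) := isIso_of_mono_of_epi _
  exact ⟨asIso (hom f 0) ≪≫ eqToIso (congrArg ClSub.idealMod hI)⟩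

/-- `H^0(P^n, O) = k`. -/
theorem finrank_h0_structure (n : ℕ) :
    Module.finrank k (Coh.HH (CohB1.ProjSpace n k) (Coh.structureModule (CohB1.ProjSpace n k)) 0) = 1 := by
  let z : Coh.structureModule (CohB1.ProjSpace n k) ≅ Twist.twistProjSpace n k 0 :=
    ProjTwist.twistZeroIso (CohB1.polyGrading n k)
  let E := CohLin.hIso z 0
  refine (LinearEquiv.ofBijective (CohLin.overLin (X := CohB1.ProjSpace n k) k E.toLinearMap) E.bijective).finrank_eq.trans ?_
  refine (ProjTwist.Pn.h0Equiv n k 0).finrank_eq.symm.trans ?_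
  exact (LinearEquiv.ofBijective (Algebra.linearMap k (CohB1.polyGrading n k 0))
    (ProjProper.Basic.bijective_algebraMap_zero n k)).finrank_eq.symm.trans
    (Module.finrank_self k)

/-- `H^i(P^n, O) = 0` for `i ≥ 1`. -/
theorem subsingleton_h_structure (n q : ℕ) :
    Subsingleton (Coh.HH (CohB1.ProjSpace n k) (Coh.structureModule (CohB1.ProjSpace n k)) (q + 1)) := by
  have h := ProjTwist.Pn.subsingleton_twist (n := n) (R := k) 0 q (Or.inr (by omega))
  let z : Coh.structureModule (CohB1.ProjSpace n k) ≅ Twist.twistProjSpace n k 0 :=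
    ProjTwist.twistZeroIso (CohB1.polyGrading n k)
  exact @Function.Injective.subsingleton _ _ _ (CohLin.hIso z (q + 1)).injective h

/-- The two ends of the long exact sequence of a hypersurface in the plane. -/
theorem finrank_h_plane_curve (G : LefPen.Form 2 k d) (hG : G ≠ 0) (hd : 1 ≤ d) :
    Module.finrank k (Coh.HH (CohB1.ProjSpace 2 k) (ClSub.quotMod (LefPen.hypIdeal G)) 0) = 1 ∧
      Module.finrank k (Coh.HH (CohB1.ProjSpace 2 k) (ClSub.quotMod (LefPen.hypIdeal G)) 1) =
        (d - 1) * (d - 2) / 2 := by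
  obtain ⟨e⟩ := nonempty_idealIso G hG
  let P := CohB1.ProjSpace 2 k
  have hS := EulerChar.shortExact_ideal (LefPen.hypIdeal G)
  set S := ShortComplex.mk (ClSub.idealModι (LefPen.hypIdeal G)) (ClSub.toSubscheme (LefPen.hypIdeal G))
    (kernel.condition _)
  have hO0 := finrank_h0_structure (k := k) 2
  haveI hI0 : Subsingleton (Coh.HH P S.X₁ 0) := by
    haveI := ProjTwist.Pn.subsingleton_H0 (n := 2) (R := k) (d := -((d • 1 : ℕ) : ℤ)) (by norm_num) (by simp; omega)
    exact @Function.Injective.subsingleton _ _ _ (CohLin.hIso e 0).symm.injective (by assumption)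
  haveI hI1 : Subsingleton (Coh.HH P S.X₁ (0 + 1)) := by
    haveI := ProjTwist.Pn.subsingleton_twist (n := 2) (R := k) (-((d • 1 : ℕ) : ℤ)) 0 (Or.inl (by norm_num))
    exact @Function.Injective.subsingleton _ _ _ (CohLin.hIso e (0 + 1)).symm.injective (by assumption)
  haveI hO1 : Subsingleton (Coh.HH P S.X₂ 1) := subsingleton_h_structure (k := k) 2 0
  haveI hO2 : Subsingleton (Coh.HH P S.X₂ (1 + 1)) := subsingleton_h_structure (k := k) 2 1
  constructor
  · refine (LinearEquiv.ofBijective (CohLin.overLin k (CohLin.hMap S.g 0)) ⟨?_, ?_⟩).finrank_eq.symm.trans hO0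
    · refine (injective_iff_map_eq_zero _).2 fun x hx => ?_
      obtain ⟨y, rfl⟩ := CohLin.exists_hMap_f_eq hS x hx
      rw [Subsingleton.elim y 0, map_zero]
    · intro x
      obtain ⟨y, hy⟩ := CohLin.exists_hMap_g_eq hS x (Subsingleton.elim _ _)
      exact ⟨y, hy⟩
  · have hb : Function.Bijective (CohLin.overLin k (CohLin.hδ hS 1)) := by
      refine ⟨(injective_iff_map_eq_zero _).2 fun x hx => ?_, fun x => ?_⟩
      · obtain ⟨y, rfl⟩ := CohLin.exists_hMap_g_eq hS x hx
        rw [Subsingleton.elim y 0, map_zero]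
      · exact CohLin.exists_hδ_eq hS x (Subsingleton.elim _ _)
    refine (LinearEquiv.ofBijective _ hb).finrank_eq.trans ?_
    let E := CohLin.hIso (e : Twist.twistProjSpace 2 k (-((d • 1 : ℕ) : ℤ)) ≅ _) (1 + 1)
    refine (LinearEquiv.ofBijective (CohLin.overLin (X := P) k E.toLinearMap) E.bijective).finrank_eq.symm.trans ?_
    rcases Nat.lt_or_ge d 3 with h | h
    · haveI := ProjTwist.Pn.subsingleton_twist (n := 2) (R := k) (-((d • 1 : ℕ) : ℤ)) 1 (Or.inr (by simp; omega))
      refine (@Module.finrank_zero_of_subsingleton k _ _ _ _ _ (by assumption)).trans ?_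
      interval_cases d <;> norm_num
    · obtain ⟨j, rfl⟩ : ∃ j, d = j + 3 := ⟨d - 3, by omega⟩
      have h1 : (-(((j + 3) • 1 : ℕ) : ℤ)) = -((2 : ℕ) + 1 + (j : ℤ)) := by simp; ring
      have key : Module.finrank k (Coh.HH P (Twist.twistProjSpace 2 k (-((2 : ℕ) + 1 + (j : ℤ)))) 2) =
          (2 + j).choose 2 := by
        rw [(ProjTwist.Pn.topEquiv 2 k j).finrank_eq]
        exact PlanePts.finrank_forms k 2 j
      show Module.finrank k (Coh.HH P (Twist.twistProjSpace 2 k (-(((j + 3) • 1 : ℕ) : ℤ))) 2) = _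
      rw [h1, key, Nat.choose_two_right]
      congr 1
      rw [show j + 3 - 1 = j + 2 by omega, show j + 3 - 2 = j + 1 by omega, show 2 + j - 1 = j + 1 by omega,
        add_comm 2 j]

end Groth.Agent.HypCohLib

end
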